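import Groth.Agent.AgPol.K117.Nodes
import Groth.Agent.AgPol.K514.PolClBc
import Groth.Agent.Ega3B.ProjFrame

/-!
# The Hilbert polynomial of a normalised core family (piece C2 of the chart node)

`X` an admissible core family, `r : X ⟶ P^m` the normalised morphism given by `3 c`, closed over the base:
`dim H⁰(X_t, O(k)) = (6 k) ^ g d = (m + 1) k ^ g` on the geometric fibres, `k ≥ 1`.

The input `RankStmt` (= `K515.RankPol.rank`) is a hypothesis, see `K514.Chart`.
-/

set_option autoImplicit false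
universe u

open CategoryTheory Limits MonoidalCategory CartesianMonoidalCategory AlgebraicGeometry
open scoped MonObj

namespace K514.ChartC2

open Groth.Agent Groth.Agent.Grpsch.PicGrp K117.Ag

/-- Riemann–Roch for the class of a polarisation over a field (`K515.RankPol.rank`). -/
def RankStmt : Prop :=
  ∀ {k : Type u} [Field k] (B : Over (Spec (CommRingCat.of k))) [GrpObj B]
    (g d : ℕ) (_ : AgPol.IsAbSch B g) {c : Pic B.left} (_ : K117.Ag.IsPolCl B d c) (j : ℕ) (_ : 1 ≤ j)
    (L : B.left.Modules) (hL : PicF.IsInvertible L) (_ : mk L hL = c ^ j),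
    CohB1.IsAmple L ∧
      (@Module.finrank k (Coh.HH B.left L 0) _ _ (@Coh.moduleOver k _ B.left ⟨B.hom⟩ L 0)) = (2 * j) ^ g * d

theorem isInvertible_twist (m : ℕ) (k : ℤ) : PicF.IsInvertible (Twist.twistProjSpace m (ULift.{u} ℤ) k) :=
  Ega3B.ProjFrame.isInvertible_twistProjSpace m _ k

/-- `O(k) = O(1) ^ k`. -/
theorem mk_twist (m k : ℕ) : mk (Twist.twistProjSpace m (ULift.{u} ℤ) (k : ℤ)) (isInvertible_twist m k) =
    o1.{u} m ^ k := by
  rw [o1, ← mk_tensorPow]
  exact (mk_eq_iff _ _).2 (Ega3B.ProjFrame.nonempty_twistProjSpace_iso m _ k)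

/-- Classes from the base are trivial on fibres over fields. -/
theorem pull_base {X T : Scheme.{u}} (f : X ⟶ T) (Ω : Type u) [Field Ω] (t : Spec (CommRingCat.of Ω) ⟶ T)
    (N : Pic T) : pull (pullback.fst f t) (pull f N) = 1 := by
  rw [← pull_comp, pullback.condition, pull_comp, pic_spec_local Ω (pull t N), map_one]

/-- The class of `O(k)` on a fibre. -/
theorem mk_fibre {X T : Scheme.{u}} {m : ℕ} (f : X ⟶ T) (r : X ⟶ PZ.{u} m) (Ω : Type u) [Field Ω]
    (t : Spec (CommRingCat.of Ω) ⟶ T) (k : ℕ)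
    (h : PicF.IsInvertible ((Scheme.Modules.pullback (pullback.fst f t ≫ r)).obj
      (Twist.twistProjSpace m (ULift.{u} ℤ) (k : ℤ)))) :
    mk ((Scheme.Modules.pullback (pullback.fst f t ≫ r)).obj (Twist.twistProjSpace m (ULift.{u} ℤ) (k : ℤ))) h =
      pull (pullback.fst f t) (pull r (o1 m)) ^ k := by
  rw [← map_pow, ← map_pow, ← mk_twist, ← pull_comp, pull_mk]

theorem hilbGood_of (hR : RankStmt.{u}) {g d n m : ℕ}
    (hm : m + 1 = 6 ^ g * d) {S : Scheme.{u}} (T : Over S) (x : Core T g)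
    (hx : Core.ok g d n T x) (I : Fin (m + 2) → (Fin (2 * g) → Fin n)) (r : x.X.left ⟶ PZ.{u} m)
    (hr : NormEmb x.X x.c x.σ I r) (hc : IsClosedImmersion (K390.PnSec.liftP r x.X.hom)) :
    Node.HilbGood m (Polynomial.C ((m : ℚ) + 1) * Polynomial.X ^ g) x.X.hom r where
  closed := hc
  flat := by
    have := hx.ab.smooth
    infer_instance
  fib := by
    intro Ω _ _ t
    filter_upwards [Filter.eventually_ge_atTop 1] with k hk
    have hA := K533.PolBC.isAbSch_bc t hx.ab
    have hP := PolClBc.isPolCl_bc t hx.ab hx.pol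
    have hL : PicF.IsInvertible ((Scheme.Modules.pullback (pullback.fst x.X.hom t ≫ r)).obj
        (Twist.twistProjSpace m (ULift.{u} ℤ) (k : ℤ))) :=
      Fdesc.LocGen.isInvertible_pullback _ (isInvertible_twist m k)
    have h1 : mk _ hL = pull (pullback.fst x.X.hom t) x.c ^ (3 * k) := by
      obtain ⟨N, hN⟩ := hr.cls
      rw [mk_fibre, hN, map_mul, pull_base, mul_one, map_pow, ← pow_mul]
    have h2 := (hR (Red.bc t x.X) g d hA hP (3 * k) (by omega) _ hL h1).2
    refine (congrArg (Nat.cast (R := ℚ)) h2).trans ?_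
    have h3 : (2 * (3 * k)) ^ g * d = (m + 1) * k ^ g := by
      rw [hm, ← mul_assoc, mul_pow]
      ring
    rw [h3]
    simp

end K514.ChartC2
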