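import Groth.Agent.AgPol.K514.ChartC2
import Groth.Agent.AgPol.K533.GeomAmple
import Groth.Agent.Variety.K436.GeomBC
import Groth.Agent.AbVar.K511.AmpleVan
import Groth.Agent.AgPol.K814.AbBasic
import Groth.Agent.Ega3B.SerreTwist
import Groth.Agent.Ega3B.FlatTensInv
import Groth.Agent.PerfB.StructFlat
import Groth.Agent.Models2.FlatIso
import Groth.Agent.S2389
import Groth.Agent.VarietyB.HHPush

/-!
# The direct image of `O(1)` for an abelian scheme in `P^m` with Hilbert polynomial `(m + 1) X ^ g` (piece C3)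

`r : A ⟶ P^m` closed over the base `U`, with `dim H⁰(A_t, O(k)) = (m + 1) k ^ g` on the geometric fibres for large `k`,
`L` an invertible module of class `r^* O(1) ⊗ (class from U)`: `L` is relatively ample and the direct image of `L` is
locally free of rank `m + 1`.

The only input is the hypothesis `PowStmt` (= `K515.RankPol.finrank_pow`), see `K514.Chart`.
-/

set_option autoImplicit false
universe u

open CategoryTheory Limits MonoidalCategory CartesianMonoidalCategory AlgebraicGeometry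
open scoped MonObj

namespace K514.ChartC3

open Groth.Agent Groth.Agent.Grpsch.PicGrp K117.Ag K514.ChartC2

/-- `h⁰(M ^ n) = n ^ g h⁰(M)` for `M` ample on an abelian variety (`K515.RankPol.finrank_pow`). -/
def PowStmt : Prop :=
  ∀ {k : Type u} [Field k] (B : Over (Spec (CommRingCat.of k))) [GrpObj B] [IsProper B.hom]
    [GeometricallyIntegral B.hom] (g : ℕ) (_ : topologicalKrullDim B.left = g) {M L : B.left.Modules}
    (hM : CohB1.IsAmple M) (hL : PicF.IsInvertible L) (n : ℕ) (_ : 1 ≤ n) (_ : mk L hL = mk M hM.1 ^ n),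
    CohB1.IsAmple L ∧
      (@Module.finrank k (Coh.HH B.left L 0) _ _ (@Coh.moduleOver k _ B.left ⟨B.hom⟩ L 0)) =
        n ^ g * (@Module.finrank k (Coh.HH B.left M 0) _ _ (@Coh.moduleOver k _ B.left ⟨B.hom⟩ M 0))

variable {U : Scheme.{u}} {m : ℕ}

/-- The class of the pullback of `O(1)` along the map to `P^m_U`. -/
theorem mk_lineOne {X : Scheme.{u}} (f : X ⟶ U) (r : X ⟶ PZ.{u} m)
    (h : PicF.IsInvertible (Ega3B.ProjFrame.lineOne m (K390.PnSec.liftP r f))) :
    mk (Ega3B.ProjFrame.lineOne m (K390.PnSec.liftP r f)) h = pull r (o1 m) := by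
  have h1 : pull r (o1 m) = pull (K390.PnSec.liftP r f) (pull (Groth.Agent.Dix.ProjProper.toZ m U) (o1 m)) := by
    rw [← pull_comp, K390.PnSec.liftP_toZ]
  rw [h1]
  rfl

/-- Ampleness on the fibres over fields. -/
theorem isAmple_fibre {X : Scheme.{u}} (f : X ⟶ U) (r : X ⟶ PZ.{u} m)
    (hc : IsClosedImmersion (K390.PnSec.liftP r f)) (L : X.Modules) (hL : PicF.IsInvertible L) (N : Pic U)
    (hN : mk L hL = pull r (o1 m) * pull f N) (k : Type u) [Field k] (t : Spec (CommRingCat.of k) ⟶ U) :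
    CohB1.IsAmple ((Scheme.Modules.pullback (pullback.fst f t)).obj L) := by
  have h : IsPullback (pullback.fst f t) (pullback.snd f t)
      (K390.PnSec.liftP r f ≫ CohB1.ProjSpaceOver.toBase m U) t := by
    rw [K390.PnSec.liftP_toBase]
    exact IsPullback.of_hasPullback _ _
  have h1 := Ega3B.SerreTwist.isAmple_baseChange m (K390.PnSec.liftP r f) t h
  have h2 : PicF.IsInvertible (Ega3B.ProjFrame.lineOne m (K390.PnSec.liftP r f)) :=
    Ega3B.ProjFrame.isInvertible_lineOne m _
  have h3 : mk _ (Fdesc.LocGen.isInvertible_pullback (pullback.fst f t) h2) =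
      mk _ (Fdesc.LocGen.isInvertible_pullback (pullback.fst f t) hL) := by
    rw [← pull_mk _ h2, ← pull_mk _ hL, mk_lineOne, hN, map_mul, pull_base, mul_one]
  obtain ⟨e⟩ := (mk_eq_iff _ _).1 h3
  exact Models2.AmplePull.isAmple_of_iso e h1

theorem isFlatOver {X S : Scheme.{u}} (f : X ⟶ S) [Flat f] {L : X.Modules}
    (hL : PicF.IsInvertible L) : FlatMod.IsFlatOver f L := by
  have h := Ega3B.FlatTensInv.isFlatOver_tensor f hL (PerfB.StructFlat.isFlatOver_structure f)
  intro x
  exact Models2.FlatIso.isFlatOverAt_of_iso f (Ega2.Tens.lunit L) x (h x)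

/-- The dimension of `H⁰(A_s, L_s)`. -/
theorem fiberRank_eq (hP : PowStmt.{u}) {g : ℕ} (A : Over U) [GrpObj A]
    (hA : AgPol.IsAbSch A g) (r : A.left ⟶ PZ.{u} m)
    (h : Node.HilbGood m (Polynomial.C ((m : ℚ) + 1) * Polynomial.X ^ g) A.hom r) (L : A.left.Modules)
    (hL : PicF.IsInvertible L) (N : Pic U) (hN : mk L hL = pull r (o1 m) * pull A.hom N) (s : U) :
    CohIII.fiberRank A.hom L 0 s = m + 1 := by
  have i1 := hA.smooth
  have i2 := hA.proper
  have i3 := hA.geomConnected
  have i4 : GeometricallyIntegral A.hom := K814.AbBasic.geometricallyIntegral A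
  let κ : Type u := U.residueField s
  let c : Spec (CommRingCat.of κ) ⟶ U := U.fromSpecResidueField s
  let Ω : Type u := AlgebraicClosure κ
  let a : Spec (CommRingCat.of Ω) ⟶ Spec (CommRingCat.of κ) := Spec.map (CommRingCat.ofHom (algebraMap κ Ω))
  let B : Over (Spec (CommRingCat.of κ)) := Red.bc c A
  have j1 : IsProper B.hom := inferInstanceAs (IsProper (pullback.snd A.hom c))
  have j2 : GeometricallyIntegral B.hom := inferInstanceAs (GeometricallyIntegral (pullback.snd A.hom c))
  let p : B.left ⟶ A.left := pullback.fst A.hom c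
  -- the fibre over the algebraic closure
  let u : pullback A.hom (a ≫ c) ⟶ B.left :=
    pullback.lift (pullback.fst A.hom (a ≫ c)) (pullback.snd A.hom (a ≫ c) ≫ a)
      (by rw [pullback.condition, Category.assoc])
  have hu1 : u ≫ p = pullback.fst A.hom (a ≫ c) := pullback.lift_fst _ _ _
  have hu2 : u ≫ B.hom = pullback.snd A.hom (a ≫ c) ≫ a := pullback.lift_snd _ _ _
  have hsq : IsPullback u (pullback.snd A.hom (a ≫ c)) B.hom a := by
    refine IsPullback.of_right (h₁₂ := p) (h₂₂ := c) (v₁₃ := A.hom) ?_ hu2 (IsPullback.of_hasPullback _ _)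
    rw [hu1]
    exact IsPullback.of_hasPullback _ _
  -- the modules
  have hM : CohB1.IsAmple ((Scheme.Modules.pullback p).obj L) := isAmple_fibre A.hom r h.closed L hL N hN κ c
  have hcl : (mk _ hM.1 : Pic B.left) = pull p (pull r (o1 m)) := by
    rw [← pull_mk p hL, hN, map_mul, pull_base, mul_one]
  let F : ℕ → B.left.Modules := fun k =>
    (Scheme.Modules.pullback (p ≫ r)).obj (Twist.twistProjSpace m (ULift.{u} ℤ) (k : ℤ))
  have hF : ∀ k, PicF.IsInvertible (F k) := fun k => Fdesc.LocGen.isInvertible_pullback _ (isInvertible_twist m k)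
  have hFc : ∀ k, mk (F k) (hF k) = mk _ hM.1 ^ k := by
    intro k
    rw [hcl]
    exact mk_fibre A.hom r κ c k (hF k)
  have hdim : topologicalKrullDim B.left = g := hA.fibreDim s
  obtain ⟨k, hk1, hk2⟩ := ((h.fib Ω (a ≫ c)).and (Filter.eventually_ge_atTop 1)).exists
  have h1 := (hP B g hdim hM (hF k) k hk2 (hFc k)).2
  -- comparison of the fibres over `κ` and `Ω`
  have h2 : @Module.finrank Ω (Coh.HH (pullback A.hom (a ≫ c))
      ((Scheme.Modules.pullback (pullback.fst A.hom (a ≫ c) ≫ r)).obj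
        (Twist.twistProjSpace m (ULift.{u} ℤ) (k : ℤ))) 0) _ _
        (@Coh.moduleOver Ω _ (pullback A.hom (a ≫ c)) ⟨pullback.snd A.hom (a ≫ c)⟩ _ 0) =
      @Module.finrank κ (Coh.HH B.left (F k) 0) _ _ (@Coh.moduleOver κ _ B.left ⟨B.hom⟩ (F k) 0) := by
    let _ : (pullback A.hom (a ≫ c)).Over (Spec (CommRingCat.of Ω)) := ⟨pullback.snd A.hom (a ≫ c)⟩
    let _ : B.left.Over (Spec (CommRingCat.of κ)) := ⟨B.hom⟩
    have j3 : IsProper (B.left ↘ Spec (CommRingCat.of κ)) := j1
    have hsq' : IsPullback u (pullback A.hom (a ≫ c) ↘ Spec (CommRingCat.of Ω)) (B.left ↘ Spec (CommRingCat.of κ))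
      (Spec.map (CommRingCat.ofHom (algebraMap κ Ω))) := hsq
    have h3 := K436.GeomBC.finrank_pullback hsq' (F k)
      (Ega2.QCohLocal.isQCoh_of_isInvertible (hF k)) 0
    have e : (Scheme.Modules.pullback u).obj (F k) ≅ (Scheme.Modules.pullback (pullback.fst A.hom (a ≫ c) ≫ r)).obj
        (Twist.twistProjSpace m (ULift.{u} ℤ) (k : ℤ)) :=
      (Scheme.Modules.pullbackComp u (p ≫ r)).app _ ≪≫
        (Scheme.Modules.pullbackCongr (by rw [← Category.assoc, hu1])).app _
    rw [← h3]
    exact (K436.H0Tensor.finrank_congr Ω e 0).symm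
  have h4 : ((k ^ g * (CohIII.fiberRank A.hom L 0 s) : ℕ) : ℚ) =
      (Polynomial.C ((m : ℚ) + 1) * Polynomial.X ^ g).eval (k : ℚ) := by
    rw [← hk1]
    refine congrArg (Nat.cast (R := ℚ)) ?_
    exact (h2.trans h1).symm
  have h5 : k ^ g * (CohIII.fiberRank A.hom L 0 s) = k ^ g * (m + 1) := by
    have h6 : ((k ^ g * (CohIII.fiberRank A.hom L 0 s) : ℕ) : ℚ) = ((k ^ g * (m + 1) : ℕ) : ℚ) := by
      rw [h4]
      simp [mul_comm]
    exact_mod_cast h6
  exact Nat.eq_of_mul_eq_mul_left (pow_pos (by omega) g) h5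

/-- Vanishing on the fibres. -/
theorem subsingleton_fiberH {g : ℕ} (A : Over U) [GrpObj A]
    (hA : AgPol.IsAbSch A g) (r : A.left ⟶ PZ.{u} m)
    (hc : IsClosedImmersion (K390.PnSec.liftP r A.hom)) (L : A.left.Modules)
    (hL : PicF.IsInvertible L) (N : Pic U) (hN : mk L hL = pull r (o1 m) * pull A.hom N) (s : U) (i : ℕ)
    (hi : i ≠ 0) : Subsingleton (CohIII.fiberH A.hom L s i) := by
  have i1 := hA.smooth
  have i2 := hA.proper
  have i3 := hA.geomConnected
  have i4 : GeometricallyIntegral A.hom := K814.AbBasic.geometricallyIntegral A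
  let κ : Type u := U.residueField s
  let c : Spec (CommRingCat.of κ) ⟶ U := U.fromSpecResidueField s
  let B : Over (Spec (CommRingCat.of κ)) := Red.bc c A
  have j1 : IsProper B.hom := inferInstanceAs (IsProper (pullback.snd A.hom c))
  have j2 : GeometricallyIntegral B.hom := inferInstanceAs (GeometricallyIntegral (pullback.snd A.hom c))
  exact K511.AmpleVan.vanish B _ (isAmple_fibre A.hom r hc L hL N hN κ c) i (Nat.pos_of_ne_zero hi)

theorem rank_of_hilbGood_of (hP : PowStmt.{u}) {g m : ℕ} {U : Scheme.{u}} [IsLocallyNoetherian U]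
    (A : Over U) [GrpObj A] (hA : AgPol.IsAbSch A g) (r : A.left ⟶ PZ.{u} m)
    (h : Node.HilbGood m (Polynomial.C ((m : ℚ) + 1) * Polynomial.X ^ g) A.hom r) (L : A.left.Modules)
    (hL : PicF.IsInvertible L) (N : Pic U) (hN : mk L hL = pull r (o1 m) * pull A.hom N) :
    RelAmple.IsRelAmple A.hom L ∧ FlatMod.IsFinLocFreeOfRank (m + 1) ((Coh.push A.hom).obj L) := by
  have i1 := hA.smooth
  have i2 := hA.proper
  refine ⟨K533.GeomAmple.isRelAmple_of_geom A.hom L hL fun Ω _ _ t =>
    isAmple_fibre A.hom r h.closed L hL N hN Ω t, fun s => ?_⟩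
  have hLN : IsLocallyNoetherian A.left := LocallyOfFiniteType.isLocallyNoetherian A.hom
  have henough : EnoughInjectives A.left.Modules := VarietyB.HHPush.enoughInjectives A.left
  have hadd : (Coh.push A.hom).Additive := inferInstanceAs (Scheme.Modules.pushforward A.hom).Additive
  have hcoh : Coh.IsCoh L := VarietyA.CurveFin.isCoh_of_isInvertible hL
  have h1 := (S2389.result A.hom L hcoh (isFlatOver A.hom hL) 0 fun y i hi =>
    subsingleton_fiberH A hA r h.closed L hL N hN y i hi).2 s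
  obtain ⟨V, hV, ⟨e⟩⟩ := h1
  rw [fiberRank_eq hP A hA r h L hL N hN s] at e
  exact ⟨V, hV, ⟨(Scheme.Modules.restrictFunctor V.ι).mapIso
    (((Scheme.Modules.pushforward A.hom).rightDerivedZeroIsoSelf).app L).symm ≪≫ e⟩⟩

end K514.ChartC3
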