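import Groth.Agent.AgPol.K515.RankPol
import Groth.Agent.AgPol.K514.ChartC2
import Groth.Agent.AgPol.K514.ChartC3

/-!
# Pieces C2 and C3 of the chart node
-/

set_option autoImplicit false
universe u

open CategoryTheory Limits MonoidalCategory CartesianMonoidalCategory AlgebraicGeometry
open scoped MonObj

namespace K514

open Groth.Agent Groth.Agent.Grpsch.PicGrp K117.Ag

theorem ChartC2.rankStmt (h14161 : K515.PolFinMain.Stmt14161.{u}) : ChartC2.RankStmt.{u} :=
  fun B _ g d hB _ hc j hj L hL h => K515.RankPol.rank h14161 B g d hB hc j hj L hL h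

theorem ChartC3.powStmt : ChartC3.PowStmt.{u} :=
  fun B _ _ _ g hg _ _ hM hL n hn h => K515.RankPol.finrank_pow B g hg hM hL n hn h

/-- **C2** -/
theorem ChartC2.hilbGood (h14161 : K515.PolFinMain.Stmt14161.{u}) {g d n m : ℕ} (_ : 1 ≤ g) (_ : 1 ≤ d)
    (hm : m + 1 = 6 ^ g * d) {S : Scheme.{u}} (T : Over S) (x : Core T g) (_ : LN S T)
    (hx : Core.ok g d n T x) (I : Fin (m + 2) → (Fin (2 * g) → Fin n)) (r : x.X.left ⟶ PZ.{u} m)
    (hr : NormEmb x.X x.c x.σ I r) (hc : IsClosedImmersion (K390.PnSec.liftP r x.X.hom)) :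
    Node.HilbGood m (Polynomial.C ((m : ℚ) + 1) * Polynomial.X ^ g) x.X.hom r :=
  ChartC2.hilbGood_of (ChartC2.rankStmt h14161) hm T x hx I r hr hc

/-- **C3** -/
theorem ChartC3.rank_of_hilbGood {g m : ℕ} (_ : 1 ≤ g) {U : Scheme.{u}} [IsLocallyNoetherian U]
    (A : Over U) [GrpObj A] (hA : AgPol.IsAbSch A g) (r : A.left ⟶ PZ.{u} m)
    (h : Node.HilbGood m (Polynomial.C ((m : ℚ) + 1) * Polynomial.X ^ g) A.hom r) (L : A.left.Modules)
    (hL : PicF.IsInvertible L) (N : Pic U) (hN : mk L hL = pull r (o1 m) * pull A.hom N) :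
    RelAmple.IsRelAmple A.hom L ∧ FlatMod.IsFinLocFreeOfRank (m + 1) ((Coh.push A.hom).obj L) :=
  ChartC3.rank_of_hilbGood_of ChartC3.powStmt A hA r h L hL N hN

end K514
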