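import Groth.Agent.AgPol.K116.ChMain
import Groth.Agent.AgPol.K514.Chart

/-!
# The inputs `HilbNorm` and `RankHilb` of the chart node
-/

set_option autoImplicit false
universe u

open CategoryTheory Limits MonoidalCategory CartesianMonoidalCategory AlgebraicGeometry
open scoped MonObj

namespace K514.ChartNodes

open Groth.Agent Groth.Agent.Grpsch.PicGrp K117.Ag

/-- **C2** in the form of `K116.ChMain`. -/
theorem hilbNorm (h14161 : K515.PolFinMain.Stmt14161.{u}) {g d n m : ℕ} (hm : m + 1 = 6 ^ g * d) :
    K116.ChMain.HilbNorm.{u} g d n m :=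
  fun T x _ hx I r hr hc => K514.ChartC2.hilbGood_of (K514.ChartC2.rankStmt h14161) hm T x hx I r hr hc

/-- **C3** in the form of `K116.ChMain`. -/
theorem rankHilb (g m : ℕ) : K116.ChMain.RankHilb.{u} g m :=
  fun A _ hA r h L hL N hN => K514.ChartC3.rank_of_hilbGood_of K514.ChartC3.powStmt A hA r h L hL N hN

end K514.ChartNodes
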